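import Groth.Agent.MatlisDual.FlatLocal
import Groth.Agent.PBasis.Derivations
import Groth.Agent.GeomRed.Alg
import Mathlib.RingTheory.Smooth.Basic
import Mathlib.RingTheory.Artinian.Module
import Mathlib.Algebra.DualNumber
import Mathlib.LinearAlgebra.Dual.Lemmas
import Mathlib.FieldTheory.Perfect

/-! Formally smooth Artinian local algebras over fields are fields; lengths. -/

set_option autoImplicit false

namespace Groth.Agent.STCILib

open IsLocalRing TensorProduct

universe u v

/-- Every extension of a perfect field is formally smooth. -/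
theorem formallySmooth_of_perfectField (F : Type v) [Field F] [PerfectField F] (L : Type u) [Field L]
    [Algebra F L] : Algebra.FormallySmooth F L := by
  have : Algebra.IsGeometricallyReduced F L := by
    rw [Algebra.isGeometricallyReduced_field_iff]
    have := GeomRed.isReduced_field_tensor_algebraic (k := F) L (AlgebraicClosure F)
    exact isReduced_of_injective (Algebra.TensorProduct.comm F (AlgebraicClosure F) L).toAlgHom
      (Algebra.TensorProduct.comm F (AlgebraicClosure F) L).injective
  exact PBasis.formallySmooth_of_isGeometricallyReduced'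

/-- An Artinian local algebra formally smooth over a perfect field is a field. -/
theorem isField_of_formallySmooth_perfect (F : Type v) [Field F] [PerfectField F] (C : Type u)
    [CommRing C] [IsLocalRing C] [IsArtinianRing C] [Algebra F C] [Algebra.FormallySmooth F C] :
    IsField C := by
  classical
  rw [IsLocalRing.isField_iff_maximalIdeal_eq]
  obtain ⟨M, hM⟩ := IsArtinianRing.isNilpotent_jacobson_bot (R := C)
  rw [IsLocalRing.jacobson_eq_maximalIdeal _ bot_ne_top] at hM
  by_contra hne
  obtain ⟨x, hx, hx2⟩ : ∃ x ∈ maximalIdeal C, x ∉ maximalIdeal C ^ 2 := by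
    by_contra h
    push Not at h
    have hpow : ∀ j, maximalIdeal C ≤ maximalIdeal C ^ (j + 1) := fun j => by
      induction j with
      | zero => simp
      | succ j ih =>
        refine le_trans h ?_
        rw [pow_two, pow_succ]
        exact mul_le_mul' ih le_rfl
    refine hne (le_bot_iff.mp ((hpow M).trans ?_))
    rw [pow_succ, hM, Ideal.zero_eq_bot, Submodule.bot_mul]
  have := formallySmooth_of_perfectField F (ResidueField C)
  let f := IsScalarTower.toAlgHom F C (ResidueField C)
  have hker : RingHom.ker f.toRingHom = maximalIdeal C := Ideal.mk_ker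
  obtain ⟨σ, hσ⟩ : ∃ σ : ResidueField C →ₐ[F] C, ∀ a, residue C (σ a) = a :=
    ⟨Algebra.FormallySmooth.liftOfSurjective (AlgHom.id F (ResidueField C)) f residue_surjective
      ⟨M, by change RingHom.ker f.toRingHom ^ M = 0; rw [hker]; exact hM⟩,
      fun a => Algebra.FormallySmooth.liftOfSurjective_apply _ f _ _ a⟩
  letI : Algebra (ResidueField C) C := σ.toRingHom.toAlgebra
  have hx2' : x ∉ (maximalIdeal C ^ 2).restrictScalars (ResidueField C) := hx2
  obtain ⟨l₀, hl₀, hl₀W⟩ := Submodule.exists_dual_map_eq_bot_of_notMem hx2' inferInstance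
  let l : C →ₗ[ResidueField C] ResidueField C := (l₀ x)⁻¹ • l₀
  have hlW : ∀ c ∈ maximalIdeal C ^ 2, l c = 0 := fun c hc => by
    have h' : l₀ c ∈ Submodule.map l₀ ((maximalIdeal C ^ 2).restrictScalars (ResidueField C)) := ⟨c, hc, rfl⟩
    rw [hl₀W] at h'
    have : l₀ c = 0 := (Submodule.mem_bot _).mp h'
    simp [l, this]
  have hlx : l x = 1 := inv_mul_cancel₀ hl₀
  have hσl : ∀ a c, l (σ a * c) = a * l c := fun a c => l.map_smul a c
  let δ : C → ResidueField C := fun c => l (c - σ (residue C c))
  have hmemm : ∀ c, c - σ (residue C c) ∈ maximalIdeal C := fun c => by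
    rw [← residue_eq_zero_iff, map_sub, hσ, sub_self]
  let ψ : C →ₐ[F] DualNumber (ResidueField C) :=
    { toFun := fun c => TrivSqZeroExt.inl (residue C c) + TrivSqZeroExt.inr (δ c)
      map_one' := by simp [δ]
      map_zero' := by simp [δ]
      map_mul' := fun c d => by
        refine TrivSqZeroExt.ext (by simp) ?_
        have h : c * d - σ (residue C (c * d)) = σ (residue C c) * (d - σ (residue C d)) +
            σ (residue C d) * (c - σ (residue C c)) + (c - σ (residue C c)) * (d - σ (residue C d)) := by
          rw [map_mul, map_mul]; ring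
        have h2 : l ((c - σ (residue C c)) * (d - σ (residue C d))) = 0 :=
          hlW _ (pow_two (maximalIdeal C) ▸ Ideal.mul_mem_mul (hmemm c) (hmemm d))
        simp only [δ, h, map_add, hσl, h2, add_zero, TrivSqZeroExt.snd_add, TrivSqZeroExt.snd_inl,
          TrivSqZeroExt.snd_inr, TrivSqZeroExt.snd_mul, TrivSqZeroExt.fst_add, TrivSqZeroExt.fst_inl,
          TrivSqZeroExt.fst_inr, zero_add, smul_eq_mul, MulOpposite.smul_eq_mul_unop,
          MulOpposite.unop_op]
        ring
      map_add' := fun c d => by
        refine TrivSqZeroExt.ext (by simp) ?_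
        have h : c + d - σ (residue C (c + d)) = (c - σ (residue C c)) + (d - σ (residue C d)) := by
          rw [map_add, map_add]; ring
        simp only [δ, h, map_add l]
        simp
      commutes' := fun r => by
        refine TrivSqZeroExt.ext ?_ ?_
        · simp [TrivSqZeroExt.algebraMap_eq_inl', IsScalarTower.algebraMap_apply F C (ResidueField C)]
        · have : algebraMap F C r - σ (residue C (algebraMap F C r)) = 0 := by
            rw [show residue C (algebraMap F C r) = algebraMap F (ResidueField C) r from
              (IsScalarTower.algebraMap_apply F C (ResidueField C) r).symm, AlgHom.commutes, sub_self]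
          simp only [δ, this, map_zero]
          simp [TrivSqZeroExt.algebraMap_eq_inl'] }
  let I : Ideal (Polynomial (ResidueField C)) := Ideal.span {Polynomial.X ^ (M + 2)}
  let π₀ : (Polynomial (ResidueField C) ⧸ I) →ₐ[ResidueField C] DualNumber (ResidueField C) :=
    Ideal.Quotient.liftₐ I (Polynomial.aeval DualNumber.eps) fun p hp => by
      obtain ⟨q, rfl⟩ := Ideal.mem_span_singleton.mp hp
      rw [map_mul, map_pow, Polynomial.aeval_X, pow_add, pow_two, DualNumber.eps_mul_eps, mul_zero, zero_mul]
  have hπ₀ : ∀ p, π₀ (Ideal.Quotient.mk I p) = Polynomial.aeval DualNumber.eps p := fun _ => rfl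
  let π := π₀.restrictScalars F
  have hfst : ∀ p : Polynomial (ResidueField C),
      (Polynomial.aeval (DualNumber.eps : DualNumber (ResidueField C)) p).fst = p.coeff 0 := fun p => by
    have := (Polynomial.aeval_algHom_apply
      (TrivSqZeroExt.fstHom (ResidueField C) (ResidueField C) (ResidueField C)) DualNumber.eps p).symm
    simpa [Polynomial.coeff_zero_eq_aeval_zero] using this
  have hπs : Function.Surjective π := fun z =>
    ⟨Ideal.Quotient.mk I (Polynomial.C z.fst + Polynomial.C z.snd * Polynomial.X), by
      change π₀ _ = z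
      rw [hπ₀]
      ext <;> simp [TrivSqZeroExt.algebraMap_eq_inl']⟩
  have hπker : ∀ q, π q = 0 → q ∈ Ideal.span {Ideal.Quotient.mk I Polynomial.X} := fun q hq => by
    obtain ⟨p, rfl⟩ := Ideal.Quotient.mk_surjective q
    have h0 : p.coeff 0 = 0 := by
      rw [← hfst, ← hπ₀, show π₀ (Ideal.Quotient.mk I p) = 0 from hq]
      rfl
    obtain ⟨r, rfl⟩ := Polynomial.X_dvd_iff.mpr h0
    exact Ideal.mem_span_singleton.mpr (Dvd.intro _ (map_mul _ _ r).symm)
  have hπnil : IsNilpotent (RingHom.ker π.toRingHom) := by
    refine ⟨M + 2, le_bot_iff.mp ((Ideal.pow_right_mono hπker _).trans ?_)⟩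
    rw [Ideal.span_singleton_pow, ← map_pow,
      Ideal.Quotient.eq_zero_iff_mem.mpr (Ideal.mem_span_singleton_self _)]
    simp
  let φ := Algebra.FormallySmooth.liftOfSurjective ψ π hπs hπnil
  have hφ : π (φ x) = ψ x := Algebra.FormallySmooth.liftOfSurjective_apply _ π hπs hπnil x
  obtain ⟨p, hp⟩ := Ideal.Quotient.mk_surjective (φ x)
  rw [← hp] at hφ
  change π₀ _ = _ at hφ
  rw [hπ₀] at hφ
  have hres : residue C x = 0 := (residue_eq_zero_iff x).mpr hx
  have hp0 : p.coeff 0 = 0 := by
    rw [← hfst, hφ]
    simp [ψ, hres]
  obtain ⟨r, rfl⟩ := Polynomial.X_dvd_iff.mpr hp0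
  have hr : r.coeff 0 = 1 := by
    have := congrArg TrivSqZeroExt.snd hφ
    simpa [ψ, δ, hres, hlx, hfst] using this
  have hxM : x ^ M = 0 := by
    have := Ideal.pow_mem_pow hx M
    rwa [hM, Ideal.zero_eq_bot, Submodule.mem_bot] at this
  have hdvd : Polynomial.X ^ (M + 2) ∣ (Polynomial.X * r) ^ M := by
    rw [← Ideal.mem_span_singleton]
    change (Polynomial.X * r) ^ M ∈ I
    rw [← Ideal.Quotient.eq_zero_iff_mem, map_pow, hp, ← map_pow, hxM, map_zero]
  rw [mul_pow, pow_add] at hdvd
  have h2 := (mul_dvd_mul_iff_left (pow_ne_zero M Polynomial.X_ne_zero)).mp hdvd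
  have h0 := Polynomial.X_dvd_iff.mp ((dvd_pow_self _ two_ne_zero).trans h2)
  rw [Polynomial.coeff_zero_eq_eval_zero, Polynomial.eval_pow, ← Polynomial.coeff_zero_eq_eval_zero,
    hr, one_pow] at h0
  exact one_ne_zero h0

/-- An Artinian local algebra formally smooth over a field is a field. -/
theorem isField_of_formallySmooth (k : Type v) [Field k] (C : Type u) [CommRing C] [IsLocalRing C]
    [IsArtinianRing C] [Algebra k C] [Algebra.FormallySmooth k C] : IsField C := by
  obtain _ | ⟨p, hp, hk⟩ := CharP.exists' k
  · letI : Algebra ℚ C := ((algebraMap k C).comp (algebraMap ℚ k)).toAlgebra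
    haveI : IsScalarTower ℚ k C := IsScalarTower.of_algebraMap_eq' rfl
    haveI := formallySmooth_of_perfectField ℚ k
    haveI := Algebra.FormallySmooth.comp ℚ k C
    exact isField_of_formallySmooth_perfect ℚ C
  · haveI := hk
    letI : Algebra (ZMod p) k := (ZMod.castHom (dvd_refl p) k).toAlgebra
    letI : Algebra (ZMod p) C := ((algebraMap k C).comp (algebraMap (ZMod p) k)).toAlgebra
    haveI : IsScalarTower (ZMod p) k C := IsScalarTower.of_algebraMap_eq' rfl
    haveI := formallySmooth_of_perfectField (ZMod p) k
    haveI := Algebra.FormallySmooth.comp (ZMod p) k C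
    exact isField_of_formallySmooth_perfect (ZMod p) C

/-- Length under flat base change of a local ring, in any universes. -/
theorem length_baseChange' {A : Type u} [CommRing A] [IsLocalRing A] {B : Type v} [CommRing B]
    [Algebra A B] [Module.Flat A B] {M : Type u} [AddCommGroup M] [Module A M] (hM : IsFiniteLength A M) :
    Module.length B (B ⊗[A] M) =
      Module.length A M * Module.length B (B ⊗[A] ResidueField A) := by
  induction hM with
  | @of_subsingleton M _ _ _ => rw [Module.length_eq_zero, Module.length_eq_zero, zero_mul]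
  | @of_simple_quotient M _ _ N _ _ ih =>
    obtain ⟨e⟩ := MatlisDual.nonempty_equiv_residueField (R := A) (M ⧸ N)
    rw [Module.length_eq_add_of_exact (N.subtype.baseChange B) (N.mkQ.baseChange B)
      (Module.Flat.lTensor_preserves_injective_linearMap (M := B) N.subtype N.subtype_injective)
      (LinearMap.lTensor_surjective B N.mkQ_surjective)
      (lTensor_exact B (LinearMap.exact_subtype_mkQ N) N.mkQ_surjective),
      Module.length_eq_add_of_exact N.subtype N.mkQ N.subtype_injective N.mkQ_surjective
        (LinearMap.exact_subtype_mkQ N), ih, (e.baseChange A B _ _).length_eq,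
      Module.length_eq_one (R := A) (M := M ⧸ N), add_mul, one_mul]

/-- A flat formally smooth map of Artinian local rings preserves the length. -/
theorem length_eq_of_flat_formallySmooth (A : Type u) (B : Type v) [CommRing A] [CommRing B] [IsLocalRing A]
    [IsLocalRing B] [IsArtinianRing A] [IsArtinianRing B] [Algebra A B] [Module.Flat A B]
    [Algebra.FormallySmooth A B] : Module.length A A = Module.length B B := by
  have hlen : Module.length B B = Module.length A A * Module.length B (B ⊗[A] ResidueField A) := by
    rw [← length_baseChange' (B := B) (isFiniteLength_iff_isNoetherian_isArtinian.mpr ⟨inferInstance, inferInstance⟩ : IsFiniteLength A A)]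
    exact (TensorProduct.AlgebraTensorModule.rid A B B).length_eq.symm
  let C := ResidueField A ⊗[A] B
  let e : C ≃ₐ[A] B ⊗[A] ResidueField A := Algebra.TensorProduct.comm A (ResidueField A) B
  have hsurj : Function.Surjective (algebraMap B (B ⊗[A] ResidueField A)) :=
    Algebra.TensorProduct.includeLeft_surjective (R := A) (T := ResidueField A) A B residue_surjective
  have : Nontrivial (B ⊗[A] ResidueField A) := by
    by_contra h
    rw [not_nontrivial_iff_subsingleton] at h
    rw [Module.length_eq_zero (R := B) (M := B ⊗[A] ResidueField A), mul_zero,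
      Module.length_eq_zero_iff] at hlen
    exact not_subsingleton B hlen
  have : IsLocalRing (B ⊗[A] ResidueField A) := IsLocalRing.of_surjective' _ hsurj
  have : IsArtinianRing (B ⊗[A] ResidueField A) := hsurj.isArtinianRing
  have : IsLocalRing C := e.symm.toRingEquiv.isLocalRing
  have : IsArtinianRing C := Function.Surjective.isArtinianRing (f := e.symm.toRingEquiv.toRingHom) e.symm.surjective
  have hf : IsField C := isField_of_formallySmooth (ResidueField A) C
  have hf' : IsField (B ⊗[A] ResidueField A) := e.symm.toRingEquiv.toMulEquiv.isField hf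
  letI := hf'.toField
  rw [hlen, Module.length_eq_of_surjective (R := B ⊗[A] ResidueField A) hsurj,
    Module.length_eq_one (R := B ⊗[A] ResidueField A) (M := B ⊗[A] ResidueField A), mul_one]

end Groth.Agent.STCILib
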