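import Groth.Prelude.Def_W4c5stcicurvesp3Euclid
import Mathlib.Data.Rat.Lemmas
import Mathlib.Algebra.Order.Field.Rat
import Mathlib.Algebra.BigOperators.Group.Finset.Basic
import Mathlib.Algebra.Order.BigOperators.Group.Finset
import Mathlib.Algebra.BigOperators.Intervals
import Mathlib.Algebra.BigOperators.Field
import Mathlib.Tactic.Linarith
import Mathlib.Tactic.FieldSimp
import Mathlib.Tactic.Ring
import Mathlib.Tactic.Positivity
import Mathlib.Tactic.LinearCombination

/-! Arithmetic of iterated Euclidean remainders and quotients. -/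

set_option autoImplicit false

namespace Groth.Agent.STCILib

open W4c5stcicurvesp3

theorem three_step {x y a b : ℚ} (hx : 2 ≤ x) (hy : y = 1 ∨ 2 ≤ y) (ha : 0 < a) (hb : 0 ≤ b) :
    (y * a + b - a) / x + (a - b) / (x + y) + b / (x + y + 1)
      ≤ (y * a + b) ^ 2 / (x * (y * a + b) + a) := by
  have hy1 : 1 ≤ y := by rcases hy with h | h <;> linarith
  have hk : 0 < y * a + b := by nlinarith
  have hN : 0 < x * (y * a + b) + a := by nlinarith
  rw [← sub_nonneg]
  have h : (y * a + b) ^ 2 / (x * (y * a + b) + a) - ((y * a + b - a) / x + (a - b) / (x + y) + b / (x + y + 1))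
      = ((a * y * (x * (y * a + b) + a) - (y * a + b) * a * (x + y)) * (x + y + 1)
          + b * x * (x * (y * a + b) + a)) / (x * (x + y) * (x + y + 1) * (x * (y * a + b) + a)) := by
    field_simp
    ring
  rw [h]
  refine div_nonneg ?_ (by positivity)
  rcases hy with rfl | hy2
  · have h1 : 0 ≤ b * ((x - 2) * a * (x + 1) + b * x ^ 2 + a * x) := by
      have : 0 ≤ (x - 2) * a * (x + 1) := mul_nonneg (mul_nonneg (by linarith) ha.le) (by linarith)
      positivity
    linarith
  · have h1 : 0 ≤ (x - 1) * (y - 1) - 1 := by nlinarith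
    have h2 : 0 ≤ ((x - 1) * (y - 1) - 1) * ((y * a + b) * a) * (x + y + 1) := by positivity
    have h3 : 0 ≤ a ^ 2 * y * (x + y + 1) + b * x * (x * (y * a + b) + a) := by positivity
    linarith

variable {N k : ℕ}

theorem irem_succ_succ {n : ℕ} (h : irem N k (n + 1) ≠ 0) :
    irem N k n = idiv N k (n + 2) * irem N k (n + 1) + irem N k (n + 2) := by
  rw [irem.eq_def N k (n + 2), idiv.eq_def N k (n + 2)]
  simp only [h, if_false]
  exact (Nat.div_add_mod' _ _).symm

theorem irem_succ_lt (hk : 0 < k) {n : ℕ} (h : irem N k (n + 1) ≠ 0) :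
    irem N k (n + 1) < irem N k n := by
  cases n with
  | zero => exact Nat.mod_lt _ hk
  | succ m =>
    have h0 : irem N k (m + 1) ≠ 0 := fun h0 => h (by rw [irem.eq_def N k (m + 2)]; simp [h0])
    rw [irem.eq_def N k (m + 1 + 1)]
    simp only [h0, if_false]
    exact Nat.mod_lt _ (Nat.pos_of_ne_zero h0)

theorem irem_pos {t : ℕ} (hk : 0 < k) (hmin : ∀ i, 0 < i → i < t → irem N k i ≠ 0) {i : ℕ}
    (h : i < t) : 0 < irem N k i := by
  cases i with
  | zero => exact hk
  | succ i => exact Nat.pos_of_ne_zero (hmin _ i.succ_pos h)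

theorem one_le_idiv (hk : 0 < k) (hkN : k ≤ N) {t : ℕ}
    (hmin : ∀ i, 0 < i → i < t → irem N k i ≠ 0) {j : ℕ} (h1 : 1 ≤ j) (hj : j ≤ t) :
    1 ≤ idiv N k j := by
  rcases j with _ | _ | n
  · omega
  · exact Nat.div_pos hkN hk
  · have h := hmin (n + 1) (by omega) (by omega)
    rw [idiv.eq_def N k (n + 2)]
    simp only [h, if_false]
    exact Nat.div_pos (irem_succ_lt hk h).le (Nat.pos_of_ne_zero h)

theorem gcd_dvd_irem : ∀ n, Nat.gcd k N ∣ irem N k n
  | 0 => Nat.gcd_dvd_left k N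
  | 1 => (Nat.dvd_mod_iff (Nat.gcd_dvd_left k N)).mpr (Nat.gcd_dvd_right k N)
  | n + 2 => by
    rw [irem.eq_def N k (n + 2)]
    by_cases h : irem N k (n + 1) = 0
    · simp [h]
    · simp only [h, if_false]
      exact (Nat.dvd_mod_iff (gcd_dvd_irem (n + 1))).mpr (gcd_dvd_irem n)

theorem sum_idiv_mul_gcd_le {t : ℕ} (hk : 0 < k) (hkN : k ≤ N) (ht : 0 < t)
    (hzero : irem N k t = 0) (hmin : ∀ i, 0 < i → i < t → irem N k i ≠ 0) :
    (∑ i ∈ Finset.Icc 1 t, idiv N k i) * Nat.gcd k N ≤ N := by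
  have key : ∀ j, j < t → (∑ i ∈ Finset.Icc 1 (j + 1), idiv N k i) * Nat.gcd k N
      + irem N k j + irem N k (j + 1) ≤ N + Nat.gcd k N := fun j => by
    induction j with
    | zero =>
      intro _
      rw [zero_add, Finset.Icc_self, Finset.sum_singleton]
      change N / k * Nat.gcd k N + k + N % k ≤ _
      have h1 : Nat.gcd k N ≤ k := Nat.le_of_dvd hk (Nat.gcd_dvd_left k N)
      have h2 : 1 ≤ N / k := Nat.div_pos hkN hk
      have h3 := Nat.div_add_mod' N k
      nlinarith
    | succ j ih =>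
      intro hj
      have hne := hmin (j + 1) j.succ_pos hj
      have h1 := irem_succ_succ hne
      have h2 := ih (by omega)
      have h3 : Nat.gcd k N ≤ irem N k (j + 1) := Nat.le_of_dvd (Nat.pos_of_ne_zero hne) (gcd_dvd_irem _)
      have h4 := Nat.mul_le_mul_left (idiv N k (j + 2)) h3
      rw [Finset.sum_Icc_succ_top (by omega), add_mul]
      change _ + idiv N k (j + 2) * Nat.gcd k N + irem N k (j + 1) + irem N k (j + 2) ≤ _
      omega
  obtain ⟨m, rfl⟩ : ∃ m, t = m + 1 := ⟨t - 1, by omega⟩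
  have h := key m (by omega)
  have h3 : Nat.gcd k N ≤ irem N k m := Nat.le_of_dvd (irem_pos hk hmin (by omega)) (gcd_dvd_irem _)
  rw [hzero] at h
  omega

theorem two_terms (hk : 0 < k) (hkN : 2 * k ≤ N) (h1 : irem N k 1 ≠ 0) :
    ((irem N k 0 : ℚ) - irem N k 1) / (idiv N k 1)
      + ((irem N k 1 : ℚ) - irem N k 2) / ((idiv N k 1 : ℚ) + idiv N k 2)
      + (irem N k 2 : ℚ) / ((idiv N k 1 : ℚ) + idiv N k 2 + 1)
      ≤ (k : ℚ) ^ 2 / N := by
  have hy : 1 ≤ idiv N k 2 := one_le_idiv (t := 2) hk (by omega)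
    (fun i hi hi2 => by rwa [show i = 1 by omega]) le_add_self le_rfl
  have hN : (N : ℚ) = idiv N k 1 * k + irem N k 1 := by
    exact_mod_cast (Nat.div_add_mod' N k).symm
  have hk' : (k : ℚ) = idiv N k 2 * irem N k 1 + irem N k 2 := by
    exact_mod_cast (irem_succ_succ (n := 0) h1 : irem N k 0 = _)
  have hx : (2 : ℚ) ≤ idiv N k 1 := by
    exact_mod_cast (Nat.le_div_iff_mul_le hk).mpr hkN
  have := three_step (b := (irem N k 2 : ℚ)) hx (y := idiv N k 2)
    (by
      rcases Nat.eq_or_lt_of_le hy with h | h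
      · exact .inl (by exact_mod_cast h.symm)
      · exact .inr (by exact_mod_cast h))
    (a := irem N k 1) (by exact_mod_cast Nat.pos_of_ne_zero h1) (Nat.cast_nonneg _)
  rw [← hk', ← hN] at this
  exact this

theorem telescoping_bound {t : ℕ} (hk : 0 < k) (hkN : 2 * k ≤ N) (ht : 0 < t)
    (hzero : irem N k t = 0) (hmin : ∀ i, 0 < i → i < t → irem N k i ≠ 0) :
    ∑ i ∈ Finset.range t, ((irem N k i : ℚ) - irem N k (i + 1)) / (∑ j ∈ Finset.Icc 1 (i + 1), (idiv N k j : ℚ))
      ≤ (k : ℚ) ^ 2 / N := by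
  obtain rfl | ⟨m, rfl⟩ : t = 1 ∨ ∃ m, t = m + 2 := by
    rcases t with _ | _ | m
    · omega
    · exact .inl rfl
    · exact .inr ⟨m, rfl⟩
  · have hN : (N : ℚ) = idiv N k 1 * k := by
      have h := (Nat.div_add_mod' N k).symm
      rw [show N % k = 0 from hzero, add_zero] at h
      exact_mod_cast h
    have hd : (0 : ℚ) < idiv N k 1 := by exact_mod_cast Nat.div_pos (by omega : k ≤ N) hk
    have hk0 : (0 : ℚ) < k := by exact_mod_cast hk
    simp only [Finset.sum_range_one, zero_add, Finset.Icc_self, Finset.sum_singleton, hzero, Nat.cast_zero, sub_zero]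
    change (k : ℚ) / _ ≤ _
    rw [hN, div_le_div_iff₀ hd (by positivity)]
    ring_nf
    exact le_rfl
  refine le_trans ?_ (two_terms hk hkN (hmin 1 one_pos (by omega)))
  rw [show m + 2 = 2 + m by omega, Finset.sum_range_add]
  refine add_le_add (le_of_eq ?_) ?_
  · simp [Finset.sum_range_succ, Finset.sum_Icc_succ_top]
  have hS : ∀ i ∈ Finset.range m,
      ((irem N k (2 + i) : ℚ) - irem N k (2 + i + 1)) / (∑ j ∈ Finset.Icc 1 (2 + i + 1), (idiv N k j : ℚ))
      ≤ ((irem N k (2 + i) : ℚ) - irem N k (2 + (i + 1))) / ((idiv N k 1 : ℚ) + idiv N k 2 + 1) := by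
    intro i hi
    rw [Finset.mem_range] at hi
    rw [← add_assoc]
    refine div_le_div_of_nonneg_left ?_ (by positivity) ?_
    · rw [sub_nonneg, Nat.cast_le]
      by_cases h : irem N k (2 + i + 1) = 0
      · simp [h]
      · exact (irem_succ_lt hk h).le
    · have hsub : ∑ j ∈ Finset.Icc 1 3, (idiv N k j : ℚ) ≤ ∑ j ∈ Finset.Icc 1 (2 + i + 1), (idiv N k j : ℚ) :=
        Finset.sum_le_sum_of_subset_of_nonneg (Finset.Icc_subset_Icc le_rfl (by omega)) fun j _ _ => Nat.cast_nonneg _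
      have h3 : (1 : ℚ) ≤ idiv N k 3 := by
        exact_mod_cast one_le_idiv hk (by omega) hmin (by omega : 1 ≤ 3) (by omega)
      have he : ∑ j ∈ Finset.Icc 1 3, (idiv N k j : ℚ) = idiv N k 1 + idiv N k 2 + idiv N k 3 := by
        simp [Finset.sum_Icc_succ_top]
      linarith
  refine (Finset.sum_le_sum hS).trans ?_
  rw [← Finset.sum_div, Finset.sum_range_sub' (fun i => (irem N k (2 + i) : ℚ)), show 2 + m = m + 2 by omega,
    hzero, Nat.cast_zero, sub_zero]

end Groth.Agent.STCILib
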